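import Cfsg.Agent.Lib.CosetEnum.Defs

/-! Generated table data. -/

set_option autoImplicit false
set_option maxRecDepth 20000

namespace Cfsg.Lib.CosetEnum.Fi24Y6

/-- Table data. -/
def tabC_0_0 : Tab :=
  (.node 8 (.node 4 (.node 2 (.node 1 (.leaf 0x4000000000000000a) (.leaf 0x4000000000000000b)) (.node 1 (.leaf 0x4000000000000000c) (.leaf 0x1000000000090000000000100000000004))) (.node 2 (.node 1 (.leaf 0x1000000000070000000000100000000006) (.leaf 0x100000c000040000080000200000800008)) (.node 1 (.leaf 0x100000400000000020000010000000000200000000005) (.leaf 0x1000008000020000340000200000800004)))) (.node 4 (.node 2 (.node 1 (.leaf 0x100000c000030000340000200000800006) (.leaf 0x10000300000c00003c0000200001000004)) (.node 1 (.leaf 0x100001800005000018000050000400000300001400005) (.leaf 0x100000800001000008000010000280000300000400007))) (.node 2 (.node 1 (.leaf 0x100000c0000100002c000030000040000200000400009) (.leaf 0x10000140000c00004c000050000300000200001000007)) (.node 1 (.leaf 0x1000018000140000180000100001800004) (.node 1 (.leaf 0x100001400004000014000040000480000300000c00009) (.leaf 0x1000018000160000180000100001800006))))))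

/-- Table data. -/
def tabC_0 : Tab :=
  tabC_0_0

end Cfsg.Lib.CosetEnum.Fi24Y6
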