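import Cfsg.Agent.Lib.CosetEnum.Defs

/-! Generated table data. -/

set_option autoImplicit false
set_option maxRecDepth 20000

namespace Cfsg.Lib.CosetEnum.Fi24Y6

/-- Table data. -/
def tabF_0_0 : Tab :=
  (.leaf 0x380000e40000000000300000c40000000000380000e60000000000300000c60000000000200000850000000000180000650000000000380000e50000000000280000aa00000000002000008a00000000001800006a00000000001000004a0000000000280000860000000000080000240000000000080000260000000000000000060000000000000000050000000000000000040000000000300000ea0000000000280000c50000000000180000a400000000001000008400000000001000006600000000000800004500000000000000002a)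

/-- Table data. -/
def tabF_0 : Tab :=
  tabF_0_0

end Cfsg.Lib.CosetEnum.Fi24Y6
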